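import Cfsg.Agent.H987.BR.OmAut
import Cfsg.Agent.H410.BR.OmDefs
import Cfsg.Agent.H410.BR.OmCard
import Cfsg.Agent.H410.BR.OmForms
import Cfsg.Agent.H226.R2.Base

/-!
# S4829, `Row2`, `PΩ⁺_{2m}(q)`: the automorphism side (helper583)

* `GamGrp hG` : the automorphisms of `POmega F Q` induced by semisimilitudes;
* `sem_of_gam` : such an automorphism is induced by `M`, `ρ`-semilinear, `Q (M v) = μ ρ (Q v)`;
* `odd_index_plus` : for `Q` of plus type, `m ≥ 4`, its index is odd (`1` or `3`);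
* `row2_plus_of` : an invariant character gives the row.
-/

set_option autoImplicit false

open Cfsg Module QuadraticMap

namespace Cfsg.Agent.H583.R2

open Cfsg.Agent.LieClassical Cfsg.Agent.LieClassical.OrthCore Cfsg.Agent.LieClassical.OrthTrans
  Cfsg.Agent.LieClassical.OrthFinite Cfsg.Agent.ClassicalGeometry.OrthSemi Cfsg.Agent.ClassicalGeometry.OrthSemiForms
  Cfsg.Agent.H987.BR Cfsg.Agent.H674.BR Cfsg.Agent.H410.BR Cfsg.Agent.H226.R2 Cfsg.Agent.H770.CY

section Gen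

variable {F : Type*} [Field F] {ι : Type} [Fintype ι] [DecidableEq ι] {Q : QuadraticForm F (ι → F)}

/-- the automorphisms induced by semisimilitudes -/
noncomputable def GamGrp (hG : Good Q) : Subgroup (MulAut (Cfsg.POmega F ⇑Q)) :=
  (Psi Q).range.comap (MulAut.congr (pomegaEquiv hG)).toMonoidHom

theorem gamAct_of_mem (hG : Good Q) {a : MulAut (Cfsg.POmega F ⇑Q)} (h : a ∈ GamGrp hG) : GamAct hG a :=
  gamAct_of_range hG h

theorem index_GamGrp (hG : Good Q) : (GamGrp hG).index = (Psi Q).range.index :=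
  Subgroup.index_comap_of_surjective _ (MulAut.congr (pomegaEquiv hG)).surjective

/-- `a` is induced by the `ρ`-semilinear similitude `M` -/
structure Sem (a : MulAut (Cfsg.POmega F ⇑Q)) (M : (ι → F) ≃+ (ι → F)) (ρ : F ≃+* F) (μ : F) : Prop where
  ne : μ ≠ 0
  smul : ∀ (c : F) (v : ι → F), M (c • v) = ρ c • M v
  form : ∀ v, Q (M v) = μ * ρ (Q v)
  ind : Induces (omRho Q) (QuotientGroup.mk' (Subgroup.center (Cfsg.Omega F ⇑Q))) M a

theorem sem_of_gam (hG : Good Q) {a : MulAut (Cfsg.POmega F ⇑Q)} (ha : GamAct hG a) :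
    ∃ (M : (ι → F) ≃+ (ι → F)) (ρ : F ≃+* F) (μ : F), Sem a M ρ μ := by
  obtain ⟨M, hM⟩ := ha
  obtain ⟨σ, c, h⟩ := M.2
  exact ⟨gamEquiv M, σ, c, h.ne, h.smul, h.form, gam_induces hG (omRho Q) (fun _ _ => rfl) hM⟩

end Gen

variable {F : Type} [Field F] {m : ℕ}

theorem good_plus [Finite F] (hm : 4 ≤ m) : Good (OrthForms.plusForm m F) := by
  have := Fintype.ofFinite F
  exact (typ_plus F (m := m) (by omega)).good (by
    rw [Fintype.card_sum, Fintype.card_fin]
    omega)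

theorem odd_index_plus [Finite F] (hm : 4 ≤ m) (hG : Good (OrthForms.plusForm m F)) : Odd (GamGrp hG).index := by
  rw [index_GamGrp]
  by_cases h4 : m = 4
  · subst h4
    rw [Cfsg.Agent.AutOrth.Final.index_plus_four]
    decide
  · have h1 : (Psi (OrthForms.plusForm m F)).range = ⊤ :=
      MonoidHom.range_eq_top.2 (Cfsg.Agent.AutOrth.Final.surjective_plus (by omega))
    rw [h1, Subgroup.index_top]
    exact odd_one

/-- **the row from an invariant character** -/
theorem row2_plus_of [Finite F] (hm : 4 ≤ m)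
    (h : ∃ χ : Cfsg.POmega F ⇑(OrthForms.plusForm m F) → ℂ, IsIrrCharacter _ χ ∧ χ ≠ 1 ∧ (∃ d : ℕ, Odd d ∧ χ 1 = d) ∧
      (∀ g, ∃ q : ℚ, χ g = q) ∧ ∀ (a : MulAut (Cfsg.POmega F ⇑(OrthForms.plusForm m F)))
        (M : ((Fin m ⊕ Fin m) → F) ≃+ ((Fin m ⊕ Fin m) → F)) (ρ : F ≃+* F) (μ : F), Sem a M ρ μ → ∀ x, χ (a x) = χ x) :
    Row2 (Cfsg.POmega F ⇑(OrthForms.plusForm m F)) := by
  have hG : Good (OrthForms.plusForm m F) := good_plus hm
  obtain ⟨χ, h1, h2, h3, h4, h5⟩ := h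
  have : Finite (Cfsg.POmega F ⇑(OrthForms.plusForm m F)) := by
    have : Finite (Cfsg.isometryGroup F ⇑(OrthForms.plusForm m F)) := inferInstance
    exact Finite.of_surjective _ (QuotientGroup.mk'_surjective _)
  refine row2_of_odd_index (Γ := GamGrp hG) (odd_index_plus hm hG) ⟨χ, h1, h2, h3, h4, ?_⟩
  intro a ha x
  obtain ⟨M, ρ, μ, hS⟩ := sem_of_gam hG (gamAct_of_mem hG ha)
  exact h5 a M ρ μ hS x

end Cfsg.Agent.H583.R2
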